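import Groth.Agent.Lib.WeilClosed.Local
import Mathlib.AlgebraicGeometry.Morphisms.Separated
import Mathlib.AlgebraicGeometry.Morphisms.IsIso
import Mathlib.AlgebraicGeometry.Morphisms.Flat
import Mathlib.AlgebraicGeometry.Morphisms.Proper
import Mathlib.AlgebraicGeometry.Morphisms.SchemeTheoreticallyDominant
import Mathlib.AlgebraicGeometry.Pullbacks
import Mathlib.LinearAlgebra.TensorProduct.Basis
import Mathlib.RingTheory.IsTensorProduct
import Mathlib.Algebra.Module.Projective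

/-!
# The locus over which two morphisms agree is closed

For morphisms `a b : T ×_S X ⟶ Y`, the functor of `T' → T` over which `a` and `b` agree on `T' ×_S X` is
represented by a closed subscheme of `T` if `X` is covered by affines with projective function rings over
affines of `S`, and `Y` is separated near the images.
-/

universe u

open CategoryTheory Limits AlgebraicGeometry TensorProduct

set_option backward.isDefEq.respectTransparency.types false

namespace Groth.Agent.WeilClosed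

variable {S T X Y : Scheme.{u}} (t : T ⟶ S) (x : X ⟶ S) (a b : pullback t x ⟶ Y)

/-- The two morphisms agree universally after base change along `g`. -/
def Agree {T' : Scheme.{u}} (g : T' ⟶ T) : Prop :=
  ∀ (W : Scheme.{u}) (p : W ⟶ T') (w : W ⟶ pullback t x), w ≫ pullback.fst t x = p ≫ g → w ≫ a = w ≫ b

lemma hom_ext_of_cover {W Z : Scheme.{u}} {f f' : W ⟶ Z}
    (h : ∀ z : W, ∃ (Q : Scheme.{u}) (j : Q ⟶ W) (_ : IsOpenImmersion j), z ∈ Set.range j ∧ j ≫ f = j ≫ f') :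
    f = f' := by
  choose Q j hj hz he using h
  exact Scheme.Cover.hom_ext
    ({ I₀ := W, X := Q, f := j, mem₀ := by
        rw [Scheme.presieve₀_mem_precoverage_iff]; exact ⟨fun z => ⟨z, hz z⟩, hj⟩ } : W.OpenCover) f f' he

lemma isLocalProp_agree : IsLocalProp (T := T) (Agree t x a b) where
  comp h g hg W p w hw := hg W (p ≫ h) w (by rw [hw, Category.assoc])
  cover g hg W p w hw := by
    refine hom_ext_of_cover fun z => ?_
    obtain ⟨Z, j, hj, ⟨z', hz'⟩, hgood⟩ := hg (p z)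
    obtain ⟨z'', hz'', -⟩ := Scheme.Pullback.exists_preimage_pullback z z' hz'.symm
    refine ⟨pullback p j, pullback.fst p j, inferInstance, ⟨z'', hz''⟩, ?_⟩
    rw [← Category.assoc, ← Category.assoc]
    refine hgood _ (pullback.snd p j) _ ?_
    rw [Category.assoc, hw, pullback.condition_assoc]

/-- Morphisms from an affine scheme to a separated one which agree after a jointly injective family of
ring maps agree. -/
theorem eq_of_jointly_injective {B : CommRingCat.{u}} {S' Y' : Scheme.{u}} (y : Y' ⟶ S') [IsSeparated y]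
    {ι : Type*} (C : ι → CommRingCat.{u}) (φ : ∀ i, B ⟶ C i)
    (hinj : ∀ z : B, (∀ i, φ i z = 0) → z = 0) (f f' : Spec B ⟶ Y') (hff : f ≫ y = f' ≫ y)
    (h : ∀ i, Spec.map (φ i) ≫ f = Spec.map (φ i) ≫ f') : f = f' := by
  let d : Spec B ⟶ pullback y y := pullback.lift f f' hff
  let c := pullback.snd (pullback.diagonal y) d
  haveI : IsClosedImmersion c := MorphismProperty.pullback_snd _ _ inferInstance
  obtain ⟨hW, hsurj⟩ := (IsClosedImmersion.isAffine_surjective_of_isAffine c)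
  have hc : c ≫ f = c ≫ f' := by
    have := pullback.condition (f := pullback.diagonal y) (g := d)
    have h1 := congr($this ≫ pullback.fst y y)
    have h2 := congr($this ≫ pullback.snd y y)
    simp only [Category.assoc, pullback.diagonal_fst, pullback.diagonal_snd, Category.comp_id,
      d, pullback.lift_fst, pullback.lift_snd] at h1 h2
    exact h1.symm.trans h2
  have hfac : ∀ i, ∃ s : Spec (C i) ⟶ pullback (pullback.diagonal y) d, s ≫ c = Spec.map (φ i) := fun i =>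
    ⟨pullback.lift (Spec.map (φ i) ≫ f) (Spec.map (φ i)) (by
      apply pullback.hom_ext
      · simp only [d, Category.assoc, pullback.diagonal_fst, Category.comp_id, pullback.lift_fst]
      · simp only [d, Category.assoc, pullback.diagonal_snd, Category.comp_id, pullback.lift_snd, h i]),
      pullback.lift_snd _ _ _⟩
  have hinj' : Function.Injective c.appTop := by
    rw [injective_iff_map_eq_zero]
    intro z hz
    suffices (Scheme.ΓSpecIso B).hom z = 0 by
      simpa using congr((Scheme.ΓSpecIso B).inv $this)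
    refine hinj _ fun i => ?_
    obtain ⟨s, hs⟩ := hfac i
    have h0 : (Spec.map (φ i)).appTop z = 0 := by
      rw [← hs, Scheme.Hom.comp_appTop, CommRingCat.comp_apply, hz, map_zero]
    have := congr((Scheme.ΓSpecIso (C i)).hom $h0)
    rw [map_zero, ← CommRingCat.comp_apply, Scheme.ΓSpecIso_naturality, CommRingCat.comp_apply] at this
    exact this
  haveI : IsIso c.appTop := by
    rw [ConcreteCategory.isIso_iff_bijective]; exact ⟨hinj', hsurj⟩
  haveI : IsIso c := by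
    haveI := hW
    exact (HasAffineProperty.iff_of_isAffine (P := MorphismProperty.isomorphisms Scheme) (f := c)).2 ⟨hW, ‹_›⟩
  exact (cancel_epi c).1 hc

theorem tensor_pi_eq_zero_of_free {R : Type*} [CommRing R] {P A : Type*} [AddCommGroup P] [Module R P]
    [AddCommGroup A] [Module R A] [Module.Free R A] {ι : Type*} {M : ι → Type*}
    [∀ i, AddCommGroup (M i)] [∀ i, Module R (M i)] (π : ∀ i, P →ₗ[R] M i)
    (hπ : ∀ p, (∀ i, π i p = 0) → p = 0) (z : P ⊗[R] A) (h : ∀ i, (π i).rTensor A z = 0) : z = 0 := by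
  classical
  let e := Module.Free.chooseBasis R A
  apply (TensorProduct.equivFinsuppOfBasisRight e).injective
  rw [map_zero]
  ext j
  refine hπ _ fun i => ?_
  have key : ∀ w : P ⊗[R] A, π i (TensorProduct.equivFinsuppOfBasisRight e w j) =
      TensorProduct.equivFinsuppOfBasisRight e ((π i).rTensor A w) j := by
    intro w
    induction w using TensorProduct.induction_on with
    | zero => simp
    | tmul p q => simp [TensorProduct.equivFinsuppOfBasisRight_apply_tmul_apply]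
    | add u v hu hv => simp [map_add, hu, hv]
  rw [key, h i, map_zero, Finsupp.coe_zero, Pi.zero_apply]

theorem tensor_pi_eq_zero {R : Type u} [CommRing R] {P A : Type u} [AddCommGroup P] [Module R P]
    [AddCommGroup A] [Module R A] [Module.Projective R A] {ι : Type u} {M : ι → Type u}
    [∀ i, AddCommGroup (M i)] [∀ i, Module R (M i)] (π : ∀ i, P →ₗ[R] M i)
    (hπ : ∀ p, (∀ i, π i p = 0) → p = 0) (z : P ⊗[R] A) (h : ∀ i, (π i).rTensor A z = 0) : z = 0 := by
  obtain ⟨s, hs⟩ := (Module.projective_def (R := R) (P := A)).1 ‹_›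
  have h1 : s.lTensor P z = 0 := tensor_pi_eq_zero_of_free π hπ _ fun i => by
    rw [← LinearMap.comp_apply, LinearMap.rTensor_comp_lTensor, ← LinearMap.lTensor_comp_rTensor,
      LinearMap.comp_apply, h i, map_zero]
  have h2 : ((Finsupp.linearCombination R id).comp s) = LinearMap.id := LinearMap.ext hs
  have h3 := congrArg ((Finsupp.linearCombination R id).lTensor P) h1
  rwa [map_zero, ← LinearMap.comp_apply, ← LinearMap.lTensor_comp, h2, LinearMap.lTensor_id, LinearMap.id_apply] at h3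

/-- An affine of `T` lying over an affine `S₀` of `S` over which `X` is covered by affines with projective function
rings, and mapping into an open of `Y` separated over some scheme, has a smallest agreement ideal. -/
theorem hasMin_agree (U : T.affineOpens) (S₀ : S.affineOpens) (hUS : U.1 ≤ t ⁻¹ᵁ S₀.1)
    (hX : ∀ ξ : X, x ξ ∈ S₀.1 → ∃ (V : X.affineOpens) (e : V.1 ≤ x ⁻¹ᵁ S₀.1), ξ ∈ V.1 ∧
      @Module.Projective Γ(S, S₀) _ Γ(X, V) _ (x.appLE S₀.1 V.1 e).hom.toAlgebra.toModule)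
    (Y₀ : Y.Opens) {S' : Scheme.{u}} (y : Y₀.toScheme ⟶ S') [IsSeparated y]
    (ha : pullback.fst t x ⁻¹ᵁ U.1 ≤ a ⁻¹ᵁ Y₀) (hb : pullback.fst t x ⁻¹ᵁ U.1 ≤ b ⁻¹ᵁ Y₀)
    (hab : a.resLE Y₀ _ ha ≫ y = b.resLE Y₀ _ hb ≫ y) : HasMin (T := T) (Agree t x a b) U := by
  refine hasMin_of_pi _ fun ι C R π hinj φ h W p w hw => ?_
  have := U.2.isOpenImmersion_fromSpec
  have := S₀.2.isOpenImmersion_fromSpec
  have hgU : ∀ z : W, pullback.fst t x (w z) ∈ U.1 := by
    intro z
    rw [← Scheme.Hom.comp_apply, hw, Scheme.Hom.comp_apply, Scheme.Hom.comp_apply]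
    exact (U.2.opensRange_fromSpec).le ⟨_, rfl⟩
  refine hom_ext_of_cover fun z => ?_
  have hz : x (pullback.snd t x (w z)) ∈ S₀.1 := by
    rw [← Scheme.Hom.comp_apply (pullback.snd t x) x, ← pullback.condition, Scheme.Hom.comp_apply]
    exact hUS (hgU z)
  obtain ⟨V, e, hξV, hproj⟩ := hX _ hz
  have := V.2.isOpenImmersion_fromSpec
  let q := w ≫ pullback.snd t x
  obtain ⟨z', hz'⟩ : ∃ z', pullback.fst q V.2.fromSpec z' = z := by
    have : q z ∈ Set.range V.2.fromSpec := by rw [V.2.range_fromSpec]; exact hξV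
    obtain ⟨v, hv⟩ := this
    obtain ⟨z', hz', -⟩ := Scheme.Pullback.exists_preimage_pullback z v hv.symm
    exact ⟨z', hz'⟩
  refine ⟨pullback q V.2.fromSpec, pullback.fst q V.2.fromSpec, inferInstance, ⟨z', hz'⟩, ?_⟩
  let ψ : Γ(S, S₀) ⟶ R := t.appLE S₀.1 U.1 hUS ≫ φ
  letI : Algebra Γ(S, S₀) Γ(X, V) := (x.appLE S₀.1 V.1 e).hom.toAlgebra
  haveI : Module.Projective Γ(S, S₀) Γ(X, V) := hproj
  letI : Algebra Γ(S, S₀) R := ψ.hom.toAlgebra
  let g : Spec R ⟶ T := Spec.map φ ≫ U.2.fromSpec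
  have hP : Spec.map (CommRingCat.ofHom (algebraMap Γ(S, S₀) R)) ≫ S₀.2.fromSpec = g ≫ t := by
    show Spec.map (t.appLE S₀.1 U.1 hUS ≫ φ) ≫ _ = _
    rw [Spec.map_comp, Category.assoc, IsAffineOpen.SpecMap_appLE_fromSpec t S₀.2 U.2, Category.assoc]
  have hA : Spec.map (CommRingCat.ofHom (algebraMap Γ(S, S₀) Γ(X, V))) ≫ S₀.2.fromSpec = V.2.fromSpec ≫ x :=
    IsAffineOpen.SpecMap_appLE_fromSpec x S₀.2 V.2 e
  let e' := pullbackSpecIso Γ(S, S₀) R Γ(X, V)
  let m : pullback (Spec.map (CommRingCat.ofHom (algebraMap Γ(S, S₀) R)))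
      (Spec.map (CommRingCat.ofHom (algebraMap Γ(S, S₀) Γ(X, V)))) ⟶ pullback t x :=
    pullback.map _ _ _ _ g V.2.fromSpec S₀.2.fromSpec hP hA
  have hmU : ∀ v, (e'.inv ≫ m) v ∈ pullback.fst t x ⁻¹ᵁ U.1 := by
    intro v
    show pullback.fst t x ((e'.inv ≫ m) v) ∈ U.1
    rw [← Scheme.Hom.comp_apply, Category.assoc, pullback.lift_fst, Scheme.Hom.comp_apply, Scheme.Hom.comp_apply,
      Scheme.Hom.comp_apply]
    exact (U.2.opensRange_fromSpec).le ⟨_, rfl⟩
  let m₀ := IsOpenImmersion.lift (pullback.fst t x ⁻¹ᵁ U.1).ι (e'.inv ≫ m)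
    (by rintro _ ⟨v, rfl⟩; rw [Scheme.Opens.range_ι]; exact hmU v)
  have hm₀ : m₀ ≫ (pullback.fst t x ⁻¹ᵁ U.1).ι = e'.inv ≫ m := IsOpenImmersion.lift_fac _ _ _
  have key : e'.inv ≫ m ≫ a = e'.inv ≫ m ≫ b := by
    letI : ∀ i, Algebra Γ(S, S₀) (C i) := fun i => ((π i).hom.comp (algebraMap Γ(S, S₀) R)).toAlgebra
    let πA : ∀ i, R →ₐ[Γ(S, S₀)] C i := fun i => { (π i).hom with commutes' := fun _ => rfl }
    suffices h0 : m₀ ≫ a.resLE Y₀ _ ha = m₀ ≫ b.resLE Y₀ _ hb by
      have := congrArg (· ≫ Y₀.ι) h0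
      simpa only [Category.assoc, Scheme.Hom.resLE_comp_ι, reassoc_of% hm₀] using this
    refine eq_of_jointly_injective y (fun i => CommRingCat.of (C i ⊗[Γ(S, S₀)] Γ(X, V)))
      (fun i => CommRingCat.ofHom (Algebra.TensorProduct.map (πA i) (AlgHom.id Γ(S, S₀) _)).toRingHom)
      (fun z hz => tensor_pi_eq_zero (fun i => (πA i).toLinearMap) hinj z hz) _ _
      (by rw [Category.assoc, Category.assoc, hab]) fun i => ?_
    rw [← cancel_mono Y₀.ι]
    simp only [Category.assoc, Scheme.Hom.resLE_comp_ι, reassoc_of% hm₀]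
    simp only [← Category.assoc]
    refine h i _ (Spec.map (CommRingCat.ofHom Algebra.TensorProduct.includeLeftRingHom)) _ ?_
    simp only [Category.assoc, m, e', pullback.lift_fst, pullbackSpecIso_inv_fst_assoc]
    simp only [g, ← Spec.map_comp_assoc]
    rfl
  let l : pullback q V.2.fromSpec ⟶ pullback (Spec.map (CommRingCat.ofHom (algebraMap Γ(S, S₀) R)))
      (Spec.map (CommRingCat.ofHom (algebraMap Γ(S, S₀) Γ(X, V)))) :=
    pullback.lift (pullback.fst q V.2.fromSpec ≫ p) (pullback.snd q V.2.fromSpec) (by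
      rw [← cancel_mono S₀.2.fromSpec, Category.assoc, Category.assoc, Category.assoc, hP, hA,
        ← pullback.condition_assoc, Category.assoc, ← reassoc_of% hw, Category.assoc, pullback.condition])
  have hl : pullback.fst q V.2.fromSpec ≫ w = l ≫ m := by
    apply pullback.hom_ext
    · simp only [l, m, g, Category.assoc, hw, pullback.lift_fst, pullback.lift_fst_assoc]
    · rw [Category.assoc, Category.assoc, pullback.lift_snd, pullback.lift_snd_assoc, pullback.condition]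
  rw [← Category.assoc, ← Category.assoc, hl, ← e'.hom_inv_id_assoc m]
  simp only [Category.assoc, key]

/-- The agreement locus is a closed subscheme. -/
theorem exists_closedSubscheme_agree
    (hX : ∀ τ : T, ∃ S₀ : S.affineOpens, t τ ∈ S₀.1 ∧ ∀ ξ : X, x ξ ∈ S₀.1 →
      ∃ (V : X.affineOpens) (e : V.1 ≤ x ⁻¹ᵁ S₀.1), ξ ∈ V.1 ∧
        @Module.Projective Γ(S, S₀) _ Γ(X, V) _ (x.appLE S₀.1 V.1 e).hom.toAlgebra.toModule)
    (hY : ∀ τ : T, ∃ (T₀ : T.Opens) (Y₀ : Y.Opens) (S' : Scheme.{u}) (y : Y₀.toScheme ⟶ S') (_ : IsSeparated y)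
      (ha : pullback.fst t x ⁻¹ᵁ T₀ ≤ a ⁻¹ᵁ Y₀) (hb : pullback.fst t x ⁻¹ᵁ T₀ ≤ b ⁻¹ᵁ Y₀),
      τ ∈ T₀ ∧ a.resLE Y₀ _ ha ≫ y = b.resLE Y₀ _ hb ≫ y) :
    ∃ (Z : Scheme.{u}) (i : Z ⟶ T), IsClosedImmersion i ∧
      ∀ {T' : Scheme.{u}} (g : T' ⟶ T), (∃ z : T' ⟶ Z, z ≫ i = g) ↔ Agree t x a b g := by
  refine exists_closedSubscheme (isLocalProp_agree t x a b) fun τ => ?_
  obtain ⟨S₀, hτS, hS₀⟩ := hX τ
  obtain ⟨T₀, Y₀, S', y, _, ha, hb, hτT, hab⟩ := hY τ
  obtain ⟨U, hU, hτU, hUle⟩ := exists_isAffineOpen_mem_and_subset (U := T₀ ⊓ t ⁻¹ᵁ S₀.1) ⟨hτT, hτS⟩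
  have hle : pullback.fst t x ⁻¹ᵁ U ≤ pullback.fst t x ⁻¹ᵁ T₀ := fun v hv => (hUle hv).1
  refine ⟨⟨U, hU⟩, hτU, hasMin_agree t x a b ⟨U, hU⟩ S₀ (fun v hv => (hUle hv).2) hS₀ Y₀ y (hle.trans ha)
    (hle.trans hb) ?_⟩
  rw [← Scheme.Hom.map_resLE (f := a) ha hle, ← Scheme.Hom.map_resLE (f := b) hb hle, Category.assoc, Category.assoc,
    hab]

/-- Over a field: separated target. -/
theorem exists_closedSubscheme_agree_of_isSeparated (y : Y ⟶ S) [IsSeparated y] (hab : a ≫ y = b ≫ y)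
    (hX : ∀ τ : T, ∃ S₀ : S.affineOpens, t τ ∈ S₀.1 ∧ ∀ ξ : X, x ξ ∈ S₀.1 →
      ∃ (V : X.affineOpens) (e : V.1 ≤ x ⁻¹ᵁ S₀.1), ξ ∈ V.1 ∧
        @Module.Projective Γ(S, S₀) _ Γ(X, V) _ (x.appLE S₀.1 V.1 e).hom.toAlgebra.toModule) :
    ∃ (Z : Scheme.{u}) (i : Z ⟶ T), IsClosedImmersion i ∧
      ∀ {T' : Scheme.{u}} (g : T' ⟶ T), (∃ z : T' ⟶ Z, z ≫ i = g) ↔ Agree t x a b g :=
  exists_closedSubscheme_agree t x a b hX fun _ =>
    ⟨⊤, ⊤, S, (⊤ : Y.Opens).ι ≫ y, inferInstance, fun _ _ => trivial, fun _ _ => trivial, trivial, by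
      erw [Scheme.Hom.resLE_comp_ι_assoc, Scheme.Hom.resLE_comp_ι_assoc, hab]⟩

/-- The hypothesis on the source is automatic over a field. -/
theorem projective_cover_of_field {K : Type u} [Field K] (x : X ⟶ Spec (CommRingCat.of K))
    (t : T ⟶ Spec (CommRingCat.of K)) (τ : T) :
    ∃ S₀ : (Spec (CommRingCat.of K)).affineOpens, t τ ∈ S₀.1 ∧ ∀ ξ : X, x ξ ∈ S₀.1 →
      ∃ (V : X.affineOpens) (e : V.1 ≤ x ⁻¹ᵁ S₀.1), ξ ∈ V.1 ∧
        @Module.Projective Γ(Spec (CommRingCat.of K), S₀) _ Γ(X, V) _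
          (x.appLE S₀.1 V.1 e).hom.toAlgebra.toModule := by
  refine ⟨⟨⊤, isAffineOpen_top _⟩, trivial, fun ξ _ => ?_⟩
  obtain ⟨V, hV, hξ, -⟩ := exists_isAffineOpen_mem_and_subset (X := X) (U := ⊤) (x := ξ) trivial
  refine ⟨⟨V, hV⟩, fun _ _ => trivial, hξ, ?_⟩
  have hfield : IsField Γ(Spec (CommRingCat.of K), ⊤) :=
    MulEquiv.isField (Field.toIsField K) (Scheme.ΓSpecIso (CommRingCat.of K)).commRingCatIsoToRingEquiv.toMulEquiv
  letI : Field Γ(Spec (CommRingCat.of K), ⊤) := hfield.toField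
  letI : Algebra Γ(Spec (CommRingCat.of K), ⊤) Γ(X, V) :=
    (x.appLE ⊤ V (fun _ _ => trivial)).hom.toAlgebra
  exact (Module.Projective.of_free : Module.Projective Γ(Spec (CommRingCat.of K), ⊤) Γ(X, V))

end Groth.Agent.WeilClosed
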