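import Mathlib.AlgebraicGeometry.IdealSheaf.Subscheme
import Mathlib.AlgebraicGeometry.Morphisms.ClosedImmersion
import Mathlib.RingTheory.Localization.Away.Basic
import Mathlib.RingTheory.Localization.Ideal

/-!
# A Zariski local property which is locally cut out by a closed subscheme is cut out by one
-/

universe u

open CategoryTheory AlgebraicGeometry TopologicalSpace

namespace Groth.Agent.WeilClosed

variable {T : Scheme.{u}} (P : ∀ {T' : Scheme.{u}}, (T' ⟶ T) → Prop)

/-- A property of schemes over `T` which is a Zariski sheaf. -/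
structure IsLocalProp : Prop where
  comp : ∀ {T' T'' : Scheme.{u}} (h : T'' ⟶ T') (g : T' ⟶ T), P g → P (h ≫ g)
  cover : ∀ {T' : Scheme.{u}} (g : T' ⟶ T),
    (∀ x : T', ∃ (Z : Scheme.{u}) (j : Z ⟶ T') (_ : IsOpenImmersion j), x ∈ Set.range j ∧ P (j ≫ g)) → P g

/-- The affine closed subscheme cut out by an ideal on an affine open. -/
noncomputable def quotι (U : T.affineOpens) (I : Ideal Γ(T, U)) :
    Spec (CommRingCat.of (Γ(T, U) ⧸ I)) ⟶ T :=
  Spec.map (CommRingCat.ofHom (Ideal.Quotient.mk I)) ≫ U.2.fromSpec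

/-- The intersection of the kernels of the affine points with the property. -/
def goodIdeal (U : T.affineOpens) : Ideal Γ(T, U) :=
  sInf {I | ∃ (S : CommRingCat.{u}) (φ : Γ(T, U) ⟶ S), P (Spec.map φ ≫ U.2.fromSpec) ∧ I = RingHom.ker φ.hom}

/-- On `U` the property is cut out by a closed subscheme. -/
def HasMin (U : T.affineOpens) : Prop := P (quotι U (goodIdeal P U))

/-- A criterion: stability under jointly injective families. -/
lemma hasMin_of_pi {U : T.affineOpens} (h : ∀ (ι : Type u) (C : ι → CommRingCat.{u}) (R : CommRingCat.{u})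
    (π : ∀ i, R ⟶ C i), (∀ r, (∀ i, π i r = 0) → r = 0) → ∀ φ : Γ(T, U) ⟶ R,
      (∀ i, P (Spec.map (π i) ≫ Spec.map φ ≫ U.2.fromSpec)) → P (Spec.map φ ≫ U.2.fromSpec)) : HasMin P U := by
  let κ := {I : Ideal Γ(T, U) //
    ∃ (S : CommRingCat.{u}) (φ : Γ(T, U) ⟶ S), P (Spec.map φ ≫ U.2.fromSpec) ∧ I = RingHom.ker φ.hom}
  choose S φ hφ hI using fun i : κ => i.2
  have hle : ∀ i : κ, ∀ r ∈ goodIdeal P U, φ i r = 0 := fun i r hr => by
    have h1 : r ∈ i.1 := Submodule.mem_sInf.mp hr i.1 i.2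
    rwa [hI i, RingHom.mem_ker] at h1
  refine h κ S (CommRingCat.of (Γ(T, U) ⧸ goodIdeal P U))
    (fun i => CommRingCat.ofHom (Ideal.Quotient.lift _ (φ i).hom (hle i))) ?_ _ fun i => ?_
  · intro p hp
    obtain ⟨r, rfl⟩ := Ideal.Quotient.mk_surjective p
    refine Ideal.Quotient.eq_zero_iff_mem.2 (Submodule.mem_sInf.2 fun I hmem => ?_)
    rw [show I = _ from hI ⟨I, hmem⟩]
    exact hp ⟨I, hmem⟩
  · rw [← Spec.map_comp_assoc]
    exact hφ i

omit T in
lemma map_map {X : Scheme.{u}} {U V W : X.Opens} (h₁ : V ≤ U) (h₂ : W ≤ V) (r : Γ(X, U)) :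
    X.presheaf.map (homOfLE h₂).op (X.presheaf.map (homOfLE h₁).op r) = X.presheaf.map (homOfLE (h₂.trans h₁)).op r := by
  rw [← CommRingCat.comp_apply, ← Functor.map_comp]; rfl

variable {P} (hP : IsLocalProp P)

include hP

lemma goodIdeal_le_ker {T' : Scheme.{u}} {g : T' ⟶ T} (hg : P g) (U : T.affineOpens) (W : T'.affineOpens)
    (e : W.1 ≤ g ⁻¹ᵁ U.1) : goodIdeal P U ≤ RingHom.ker (g.appLE U.1 W.1 e).hom :=
  sInf_le ⟨_, g.appLE U.1 W.1 e, by rw [IsAffineOpen.SpecMap_appLE_fromSpec g U.2 W.2]; exact hP.comp _ _ hg, rfl⟩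

omit hP in
lemma goodIdeal_le_comap (U V : T.affineOpens) (h : V.1 ≤ U.1) :
    goodIdeal P U ≤ (goodIdeal P V).comap (T.presheaf.map (homOfLE h).op).hom := by
  intro r hr
  refine Submodule.mem_sInf.2 ?_
  rintro _ ⟨S, φ, hφ, rfl⟩
  exact Submodule.mem_sInf.1 hr _ ⟨S, T.presheaf.map (homOfLE h).op ≫ φ,
    by rw [Spec.map_comp, Category.assoc, U.2.map_fromSpec V.2]; exact hφ, rfl⟩

lemma of_goodIdeal_le {U : T.affineOpens} (hU : HasMin P U) {S : CommRingCat.{u}} (φ : Γ(T, U) ⟶ S)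
    (hle : goodIdeal P U ≤ RingHom.ker φ.hom) : P (Spec.map φ ≫ U.2.fromSpec) := by
  have h := hP.comp (Spec.map (CommRingCat.ofHom (Ideal.Quotient.lift _ φ.hom hle))) _ hU
  rw [quotι, ← Spec.map_comp_assoc] at h
  exact h

lemma hasMin_basicOpen {U : T.affineOpens} (hU : HasMin P U) (f : Γ(T, U)) :
    HasMin P (T.affineBasicOpen f) ∧
      (goodIdeal P U).map (T.presheaf.map (homOfLE <| T.basicOpen_le f).op).hom =
        goodIdeal P (T.affineBasicOpen f) := by
  set ρ := T.presheaf.map (homOfLE <| T.basicOpen_le f).op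
  set V := T.affineBasicOpen f
  have hρ : Spec.map ρ ≫ U.2.fromSpec = V.2.fromSpec := U.2.map_fromSpec V.2 _
  have key : P (quotι V ((goodIdeal P U).map ρ.hom)) := by
    have h := of_goodIdeal_le hP hU (ρ ≫ CommRingCat.ofHom (Ideal.Quotient.mk ((goodIdeal P U).map ρ.hom)))
      (fun r hr => Ideal.Quotient.eq_zero_iff_mem.2 (Ideal.mem_map_of_mem _ hr))
    rw [Spec.map_comp, Category.assoc, hρ] at h
    exact h
  have heq : (goodIdeal P U).map ρ.hom = goodIdeal P V := by
    refine le_antisymm (Ideal.map_le_iff_le_comap.2 (goodIdeal_le_comap U V (T.basicOpen_le f))) ?_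
    exact sInf_le ⟨_, _, key, Ideal.mk_ker.symm⟩
  exact ⟨show P (quotι V (goodIdeal P V)) from heq ▸ key, heq⟩

/-- Being cut out by a closed subscheme is local. -/
lemma hasMin_of_cover (U : T.affineOpens) (s : Set Γ(T, U)) (hfin : s.Finite) (hs : Ideal.span s = ⊤)
    (hk : ∀ k ∈ s, HasMin P (T.affineBasicOpen k)) : HasMin P U := by
  let ρ : ∀ k : Γ(T, U), Γ(T, U) ⟶ Γ(T, T.affineBasicOpen k) := fun k =>
    T.presheaf.map (homOfLE <| T.basicOpen_le k).op
  have hmem : ∀ r : Γ(T, U), (∀ k ∈ s, ρ k r ∈ goodIdeal P (T.affineBasicOpen k)) → r ∈ goodIdeal P U := by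
    intro r hr
    refine Submodule.mem_sInf.2 ?_
    rintro _ ⟨S, φ, hφ, rfl⟩
    rw [RingHom.mem_ker]
    have hloc : ∀ k ∈ s, ∃ n : ℕ, φ k ^ n * φ r = 0 := by
      intro k hks
      letI : Algebra Γ(T, U) Γ(T, T.affineBasicOpen k) := (ρ k).hom.toAlgebra
      have : IsLocalization.Away k Γ(T, T.affineBasicOpen k) := U.2.isLocalization_basicOpen k
      let ψ : Γ(T, T.affineBasicOpen k) →+* Localization.Away (φ k) :=
        IsLocalization.Away.lift k (g := (algebraMap S (Localization.Away (φ k))).comp φ.hom)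
          (IsLocalization.Away.algebraMap_isUnit (φ k))
      have hψ : ρ k ≫ CommRingCat.ofHom ψ = φ ≫ CommRingCat.ofHom (algebraMap S (Localization.Away (φ k))) :=
        CommRingCat.hom_ext (IsLocalization.Away.lift_comp k (IsLocalization.Away.algebraMap_isUnit (φ k)))
      have hgood : P (Spec.map (CommRingCat.ofHom ψ) ≫ (T.affineBasicOpen k).2.fromSpec) := by
        rw [← U.2.map_fromSpec (T.affineBasicOpen k).2 (homOfLE (T.basicOpen_le k)).op, ← Spec.map_comp_assoc]
        show P (Spec.map (ρ k ≫ CommRingCat.ofHom ψ) ≫ _)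
        rw [hψ, Spec.map_comp, Category.assoc]
        exact hP.comp _ _ hφ
      have h0 : ψ (ρ k r) = 0 := Submodule.mem_sInf.1 (hr k hks) _ ⟨_, CommRingCat.ofHom ψ, hgood, rfl⟩
      rw [show ψ (ρ k r) = algebraMap S (Localization.Away (φ k)) (φ r) from
        DFunLike.congr_fun (congrArg CommRingCat.Hom.hom hψ) r] at h0
      obtain ⟨⟨_, n, rfl⟩, hn⟩ := (IsLocalization.map_eq_zero_iff (Submonoid.powers (φ k)) _ _).1 h0
      exact ⟨n, hn⟩
    let A : Ideal S :=
      { carrier := {a | a * φ r = 0}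
        add_mem' := fun {a b} (ha : a * φ r = 0) (hb : b * φ r = 0) => by
          show (a + b) * φ r = 0; rw [add_mul, ha, hb, add_zero]
        zero_mem' := zero_mul _
        smul_mem' := fun c a (ha : a * φ r = 0) => by show c * a * φ r = 0; rw [mul_assoc, ha, mul_zero] }
    have hA : A.radical = ⊤ := by
      rw [eq_top_iff, ← Ideal.map_top φ.hom, ← hs, Ideal.map_span, Ideal.span_le]
      rintro _ ⟨k, hks, rfl⟩
      exact hloc k hks
    have h1 : (1 : S) ∈ A := (Ideal.eq_top_iff_one _).1 (Ideal.radical_eq_top.1 hA)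
    exact (one_mul _).symm.trans (h1 : (1 : S) * φ r = 0)
  show P (Spec.map _ ≫ _)
  refine hP.cover _ fun x => ?_
  obtain ⟨k, hks, hkx⟩ : ∃ k ∈ s, Ideal.Quotient.mk (goodIdeal P U) k ∉ x.asIdeal := by
    by_contra hne
    push Not at hne
    refine x.isPrime.ne_top (eq_top_iff.2 ?_)
    rw [← Ideal.map_top (Ideal.Quotient.mk (goodIdeal P U)), ← hs, Ideal.map_span, Ideal.span_le]
    rintro _ ⟨k, hks, rfl⟩
    exact hne k hks
  set A := Γ(T, U) ⧸ goodIdeal P U
  let a : A := Ideal.Quotient.mk _ k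
  refine ⟨Spec (CommRingCat.of (Localization.Away a)),
    Spec.map (CommRingCat.ofHom (algebraMap A (Localization.Away a))),
    IsOpenImmersion.of_isLocalization a, ?_, ?_⟩
  · show x ∈ Set.range (PrimeSpectrum.comap (algebraMap A (Localization.Away a)))
    rw [PrimeSpectrum.localization_away_comap_range _ a]
    exact hkx
  letI : Algebra Γ(T, U) Γ(T, T.affineBasicOpen k) := (ρ k).hom.toAlgebra
  have : IsLocalization.Away k Γ(T, T.affineBasicOpen k) := U.2.isLocalization_basicOpen k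
  let ψ : Γ(T, T.affineBasicOpen k) →+* Localization.Away a :=
    IsLocalization.Away.lift k (g := (algebraMap A (Localization.Away a)).comp (Ideal.Quotient.mk (goodIdeal P U)))
      (IsLocalization.Away.algebraMap_isUnit a)
  have hψ : ρ k ≫ CommRingCat.ofHom ψ =
      CommRingCat.ofHom (Ideal.Quotient.mk (goodIdeal P U)) ≫ CommRingCat.ofHom (algebraMap A (Localization.Away a)) :=
    CommRingCat.hom_ext (IsLocalization.Away.lift_comp k (IsLocalization.Away.algebraMap_isUnit a))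
  rw [← Spec.map_comp_assoc, ← hψ, Spec.map_comp, Category.assoc]
  erw [U.2.map_fromSpec (T.affineBasicOpen k).2]
  refine of_goodIdeal_le hP (hk k hks) _ fun z hz => ?_
  obtain ⟨r, ⟨_, n, rfl⟩, rfl⟩ := IsLocalization.exists_mk'_eq (Submonoid.powers k) z
  have hr' : ρ k r ∈ goodIdeal P (T.affineBasicOpen k) := by
    have := Ideal.mul_mem_right (algebraMap Γ(T, U) Γ(T, T.affineBasicOpen k) (k ^ n)) _ hz
    rwa [IsLocalization.mk'_spec] at this
  have hpow : ∃ m : ℕ, ∀ l ∈ s, ρ l (k ^ m * r) ∈ goodIdeal P (T.affineBasicOpen l) := by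
    have : ∀ l ∈ s, ∃ m : ℕ, ρ l (k ^ m * r) ∈ goodIdeal P (T.affineBasicOpen l) := by
      intro l hls
      let W := T.affineBasicOpen (ρ l k)
      have hWk : W.1 ≤ (T.affineBasicOpen k).1 := by
        show T.basicOpen (T.presheaf.map (homOfLE (T.basicOpen_le l)).op k) ≤ T.basicOpen k
        rw [Scheme.basicOpen_res]; exact inf_le_right
      have h1 : T.presheaf.map (homOfLE (T.basicOpen_le (ρ l k))).op (ρ l r) ∈ goodIdeal P W := by
        have h2 := goodIdeal_le_comap _ W hWk hr'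
        rw [Ideal.mem_comap] at h2
        exact (((map_map (T.basicOpen_le k) hWk r).trans (map_map (T.basicOpen_le l) (T.basicOpen_le (ρ l k)) r).symm) ▸ h2 :)
      rw [← (hasMin_basicOpen hP (hk l hls) (ρ l k)).2] at h1
      letI : Algebra Γ(T, T.affineBasicOpen l) Γ(T, T.basicOpen (ρ l k)) :=
        (T.presheaf.map (homOfLE (T.basicOpen_le (ρ l k))).op).hom.toAlgebra
      have hL : IsLocalization.Away (ρ l k) Γ(T, T.basicOpen (ρ l k)) :=
        (T.affineBasicOpen l).2.isLocalization_basicOpen (ρ l k)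
      obtain ⟨_, ⟨m, rfl⟩, hm⟩ := (@IsLocalization.algebraMap_mem_map_algebraMap_iff _ _
        (Submonoid.powers (ρ l k)) Γ(T, T.basicOpen (ρ l k)) _ _ hL (goodIdeal P (T.affineBasicOpen l)) (ρ l r)).1 h1
      exact ⟨m, by rw [map_mul, map_pow]; exact hm⟩
    choose m hm using this
    have : Fintype s := hfin.fintype
    refine ⟨Finset.univ.sup (fun l : s => m l.1 l.2), fun l hls => ?_⟩
    have hle : m l hls ≤ Finset.univ.sup (fun l : s => m l.1 l.2) :=
      Finset.le_sup (f := fun l : s => m l.1 l.2) (Finset.mem_univ ⟨l, hls⟩)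
    rw [← Nat.sub_add_cancel hle, pow_add, mul_assoc, map_mul]
    exact Ideal.mul_mem_left _ _ (hm l hls)
  obtain ⟨m, hm⟩ := hpow
  have h0 : Ideal.Quotient.mk (goodIdeal P U) (k ^ m * r) = 0 := Ideal.Quotient.eq_zero_iff_mem.2 (hmem _ hm)
  rw [RingHom.mem_ker]
  show ψ _ = 0
  refine (IsUnit.mul_right_eq_zero ((IsLocalization.Away.algebraMap_isUnit (S := Localization.Away a) a).pow n)).1 ?_
  refine (IsUnit.mul_right_eq_zero ((IsLocalization.Away.algebraMap_isUnit (S := Localization.Away a) a).pow m)).1 ?_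
  have e1 : ∀ z, ψ (algebraMap Γ(T, U) Γ(T, T.affineBasicOpen k) z) =
      algebraMap A (Localization.Away a) (Ideal.Quotient.mk (goodIdeal P U) z) := fun z =>
    DFunLike.congr_fun (congrArg CommRingCat.Hom.hom hψ) z
  have e2 : algebraMap Γ(T, U) Γ(T, T.affineBasicOpen k) (k ^ n) *
      IsLocalization.mk' Γ(T, T.affineBasicOpen k) r ⟨k ^ n, Submonoid.pow_mem _ (Submonoid.mem_powers k) n⟩ =
      algebraMap Γ(T, U) Γ(T, T.affineBasicOpen k) r := IsLocalization.mk'_spec' _ r ⟨k ^ n, _⟩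
  calc algebraMap A (Localization.Away a) a ^ m * (algebraMap A (Localization.Away a) a ^ n * ψ _)
      = ψ (algebraMap Γ(T, U) _ (k ^ m * r)) := by
        rw [map_mul, map_mul, ← e2, map_mul, e1, e1, map_pow, map_pow, map_pow, map_pow]
    _ = 0 := by rw [e1, h0, map_zero]

variable (hloc : ∀ x : T, ∃ U : T.affineOpens, x ∈ U.1 ∧ HasMin P U)

include hloc in
lemma hasMin (U : T.affineOpens) : HasMin P U := by
  have : ∀ x : U.1, ∃ f : Γ(T, U), x.1 ∈ T.basicOpen f ∧ HasMin P (T.affineBasicOpen f) := by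
    intro ⟨x, hx⟩
    obtain ⟨V, hxV, hV⟩ := hloc x
    obtain ⟨f, f', hff, hxf⟩ := exists_basicOpen_le_affine_inter U.2 V.2 x ⟨hx, hxV⟩
    exact ⟨f, hxf, by rw [show T.affineBasicOpen f = T.affineBasicOpen f' from Subtype.ext hff]
                      exact (hasMin_basicOpen hP hV f').1⟩
  choose f hxf hf using this
  have hspan : Ideal.span (Set.range f) = ⊤ := by
    rw [← U.2.self_le_iSup_basicOpen_iff]
    exact fun x hx => Opens.mem_iSup.mpr ⟨⟨_, ⟨x, hx⟩, rfl⟩, hxf ⟨x, hx⟩⟩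
  obtain ⟨s, hs, hspan'⟩ := Submodule.mem_span_finite_of_mem_span ((Ideal.eq_top_iff_one _).1 hspan)
  refine hasMin_of_cover hP U s s.finite_toSet ((Ideal.eq_top_iff_one _).2 hspan') fun k hk => ?_
  obtain ⟨x, rfl⟩ := hs hk
  exact hf x

/-- The ideal sheaf of the closed subscheme cut out by the property. -/
def locus : T.IdealSheafData where
  ideal := goodIdeal P
  map_ideal_basicOpen U f := (hasMin_basicOpen hP (hasMin hP hloc U) f).2

lemma prop_locus : P (locus hP hloc).subschemeι := by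
  refine hP.cover _ fun x => ?_
  obtain ⟨U, y, hy⟩ := (locus hP hloc).subschemeCover.openCover.exists_eq x
  refine ⟨_, (locus hP hloc).subschemeCover.f U, (locus hP hloc).subschemeCover.map_prop U, ⟨y, hy⟩, ?_⟩
  erw [Scheme.IdealSheafData.subschemeCover_map_subschemeι]
  erw [Scheme.IdealSheafData.glueDataObjι_ι]
  exact hasMin hP hloc U

lemma locus_le_ker {T' : Scheme.{u}} {g : T' ⟶ T} (hg : P g) : locus hP hloc ≤ g.ker := by
  refine Scheme.IdealSheafData.le_ofIdeals_iff.2 fun U r hr => ?_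
  rw [RingHom.mem_ker]
  refine T'.sheaf.eq_of_locally_eq'
    (fun W : {W : T'.affineOpens // (W : T'.Opens) ≤ g ⁻¹ᵁ U} => (W.1 : T'.Opens)) (g ⁻¹ᵁ U)
    (fun W => homOfLE W.2) (fun p hp => ?_) _ _ fun W => ?_
  · obtain ⟨W, hW, hpW, hle⟩ := exists_isAffineOpen_mem_and_subset hp
    exact Opens.mem_iSup.2 ⟨⟨⟨W, hW⟩, hle⟩, hpW⟩
  · show T'.presheaf.map (homOfLE W.2).op (g.app U r) = T'.presheaf.map (homOfLE W.2).op 0
    rw [map_zero, ← CommRingCat.comp_apply]
    exact goodIdeal_le_ker hP hg U W.1 W.2 hr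

/-- A local property locally cut out by closed subschemes is cut out by a closed subscheme. -/
theorem exists_closedSubscheme (hloc : ∀ x : T, ∃ U : T.affineOpens, x ∈ U.1 ∧ HasMin P U) :
    ∃ (Z : Scheme.{u}) (i : Z ⟶ T), IsClosedImmersion i ∧
      ∀ {T' : Scheme.{u}} (g : T' ⟶ T), (∃ z : T' ⟶ Z, z ≫ i = g) ↔ P g := by
  refine ⟨_, (locus hP hloc).subschemeι, inferInstance, fun {T'} g => ⟨?_, fun hg => ?_⟩⟩
  · rintro ⟨z, rfl⟩
    exact hP.comp z _ (prop_locus hP hloc)
  · exact ⟨IsClosedImmersion.lift _ g (by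
      rw [Scheme.IdealSheafData.ker_subschemeι]; exact locus_le_ker hP hloc hg),
      IsClosedImmersion.lift_fac _ _ _⟩

end Groth.Agent.WeilClosed
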